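import Mathlib.RingTheory.Henselian
import Mathlib.Dynamics.Newton
import Mathlib.RingTheory.Jacobson.Ideal
import Mathlib.RingTheory.Nilpotent.Lemmas

/-!
Helper lemmas on Henselian pairs (Mathlib's `HenselianRing`), by helper3.
-/

namespace Groth.Agent.Lib.Helper3

open Polynomial

/-- If `a` is a root of `f`, `f(a₀) ∈ I` and `f'(a₀) + k (a - a₀)` is a unit for every `k`,
then `a - a₀ ∈ I`. -/
theorem sub_mem_of_isRoot_of_isUnit {A : Type*} [CommRing A] (I : Ideal A) (f : A[X]) (a a₀ : A)
    (hroot : f.IsRoot a) (h0 : f.eval a₀ ∈ I)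
    (hu : ∀ k : A, IsUnit (f.derivative.eval a₀ + k * (a - a₀))) : a - a₀ ∈ I := by
  obtain ⟨k, hk⟩ := binomExpansion f a₀ (a - a₀)
  rw [add_sub_cancel, hroot.eq_zero] at hk
  obtain ⟨u, hu'⟩ := hu k
  have h1 : (a - a₀) * (u : A) = -f.eval a₀ := by
    rw [hu']
    linear_combination -hk
  have h2 : a - a₀ = -f.eval a₀ * ((u⁻¹ : Aˣ) : A) := by
    rw [← h1, mul_assoc, Units.mul_inv, mul_one]
  rw [h2]
  exact I.mul_mem_right _ (I.neg_mem h0)

/-- An element which is a unit modulo an ideal contained in the Jacobson radical is a unit. -/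
theorem isUnit_of_isUnit_mk_of_le_jacobson {A : Type*} [CommRing A] {I : Ideal A}
    (hI : I ≤ Ideal.jacobson ⊥) {x : A} (hx : IsUnit (Ideal.Quotient.mk I x)) : IsUnit x := by
  have : IsLocalHom (Ideal.Quotient.mk I) := isLocalHom_of_le_jacobson_bot I hI
  exact isUnit_of_map_unit (Ideal.Quotient.mk I) x hx

/-- A locally nilpotent ideal lies in the Jacobson radical. -/
theorem le_jacobson_bot_of_forall_isNilpotent {A : Type*} [CommRing A] (I : Ideal A)
    (hI : ∀ x ∈ I, IsNilpotent x) : I ≤ Ideal.jacobson ⊥ := by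
  intro x hx
  rw [Ideal.mem_jacobson_bot]
  intro y
  have : IsNilpotent (x * y) := (Commute.all x y).isNilpotent_mul_right (hI x hx)
  exact IsNilpotent.isUnit_add_one this

/-- A ring is Henselian at every locally nilpotent ideal. -/
theorem henselianRing_of_forall_isNilpotent {A : Type*} [CommRing A] (I : Ideal A)
    (hI : ∀ x ∈ I, IsNilpotent x) : HenselianRing A I where
  jac := le_jacobson_bot_of_forall_isNilpotent I hI
  is_henselian f _ a₀ h₁ h₂ := by
    have hjac := le_jacobson_bot_of_forall_isNilpotent I hI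
    have hunit : IsUnit (f.derivative.eval a₀) := isUnit_of_isUnit_mk_of_le_jacobson hjac h₂
    have hnil : IsNilpotent (aeval a₀ f) := by simpa using hI _ h₁
    have hunit' : IsUnit (aeval a₀ (derivative f)) := by simpa using hunit
    obtain ⟨r, ⟨hr1, hr2⟩, -⟩ := existsUnique_nilpotent_sub_and_aeval_eq_zero hnil hunit'
    refine ⟨r, by simpa [IsRoot.def] using hr2, ?_⟩
    apply sub_mem_of_isRoot_of_isUnit I f r a₀ (by simpa [IsRoot.def] using hr2) h₁
    intro k
    have hn : IsNilpotent (k * (r - a₀)) := by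
      have : IsNilpotent (r - a₀) := by
        rw [← neg_sub]; exact hr1.neg
      exact (Commute.all _ _).isNilpotent_mul_left this
    exact IsNilpotent.isUnit_add_left_of_commute hn hunit (Commute.all _ _)

end Groth.Agent.Lib.Helper3
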