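import Mathlib.RingTheory.Flat.FaithfullyFlat.Algebra
import Mathlib.RingTheory.Flat.Basic

/-!
Descent of flatness along a faithfully flat map (helper3):
if `R → S → S'` with `S'` flat over `R` and faithfully flat over `S`, then `S` is flat over `R`.
-/

namespace Groth.Agent.Lib.Helper3

open TensorProduct LinearMap

theorem flat_of_flat_of_faithfullyFlat (R S S' : Type*) [CommRing R] [CommRing S] [CommRing S']
    [Algebra R S] [Algebra S S'] [Algebra R S'] [IsScalarTower R S S'] [Module.Flat R S']
    [Module.FaithfullyFlat S S'] : Module.Flat R S := by
  rw [Module.Flat.iff_lTensor_preserves_injective_linearMap]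
  intro N N' _ _ _ _ u hu
  have hbot : Function.Injective (lTensor S' u) :=
    Module.Flat.lTensor_preserves_injective_linearMap u hu
  -- the vertical maps `S ⊗[R] M → S' ⊗[R] M`
  let v (M : Type _) [AddCommGroup M] [Module R M] : S ⊗[R] M →ₗ[R] S' ⊗[R] M :=
    rTensor M (IsScalarTower.toAlgHom R S S').toLinearMap
  have hv : ∀ (M : Type _) [AddCommGroup M] [Module R M], Function.Injective (v M) := by
    intro M _ _
    have h1 : Function.Injective (TensorProduct.mk S S' (S ⊗[R] M) 1) :=
      Module.FaithfullyFlat.tensorProduct_mk_injective (A := S) (B := S') (S ⊗[R] M)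
    have h2 : ∀ y : S ⊗[R] M, v M y =
        (TensorProduct.AlgebraTensorModule.cancelBaseChange R S S' S' M)
          (TensorProduct.mk S S' (S ⊗[R] M) 1 y) := by
      intro y
      induction y using TensorProduct.induction_on with
      | zero => simp
      | tmul s m =>
        simp [v, Algebra.smul_def]
      | add a b ha hb => simp only [map_add, ha, hb]
    intro a b hab
    rw [h2, h2] at hab
    exact h1 ((TensorProduct.AlgebraTensorModule.cancelBaseChange R S S' S' M).injective hab)
  have comm : ∀ y, lTensor S' u (v N y) = v N' (lTensor S u y) := by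
    intro y
    induction y using TensorProduct.induction_on with
    | zero => simp
    | tmul s m => simp [v]
    | add a b ha hb => simp only [map_add, ha, hb]
  intro a b hab
  apply hv N
  apply hbot
  rw [comm, comm, hab]

end Groth.Agent.Lib.Helper3
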