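import Groth.Agent.Lib.Helper3.WeaklyEtale
import Groth.Agent.Lib.Helper3.FlatDescent
import Mathlib.RingTheory.RingHom.FaithfullyFlat

/-!
Descent of weak étaleness along a faithfully flat map (Stacks 092L-type), by helper3:
if `A → B → C`, `C` weakly étale over `A` and faithfully flat over `B`, then `B` is weakly étale
over `A`.
-/

namespace Groth.Agent.Lib.Helper3

open TensorProduct

theorem ringHom_flat_of_comp_of_faithfullyFlat {R S S' : Type*} [CommRing R] [CommRing S]
    [CommRing S'] (f : R →+* S) (g : S →+* S') (hgf : (g.comp f).Flat) (hg : g.FaithfullyFlat) :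
    f.Flat := by
  algebraize [f, g, g.comp f]
  exact flat_of_flat_of_faithfullyFlat R S S'

theorem weaklyEtale_of_faithfullyFlat (A B C : Type*) [CommRing A] [CommRing B] [CommRing C]
    [Algebra A B] [Algebra B C] [Algebra A C] [IsScalarTower A B C] [Algebra.WeaklyEtale A C]
    [Module.FaithfullyFlat B C] : Algebra.WeaklyEtale A B := by
  have hBC : (IsScalarTower.toAlgHom A B C).Flat := by
    change (algebraMap B C).Flat
    rw [RingHom.flat_algebraMap_iff]
    infer_instance
  refine ⟨flat_of_flat_of_faithfullyFlat A B C, ?_⟩
  apply ringHom_flat_of_comp_of_faithfullyFlat _ (algebraMap B C)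
  · have heq : (algebraMap B C).comp (Algebra.TensorProduct.lmul' A (S := B)).toRingHom =
        (Algebra.TensorProduct.lmul' A (S := C)).toRingHom.comp
          (Algebra.TensorProduct.map (IsScalarTower.toAlgHom A B C)
            (IsScalarTower.toAlgHom A B C)).toRingHom := by
      have heq' : (IsScalarTower.toAlgHom A B C).comp (Algebra.TensorProduct.lmul' A (S := B)) =
          (Algebra.TensorProduct.lmul' A (S := C)).comp
            (Algebra.TensorProduct.map (IsScalarTower.toAlgHom A B C)
              (IsScalarTower.toAlgHom A B C)) := by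
        ext <;> simp
      exact congrArg (fun φ : B ⊗[A] B →ₐ[A] C => φ.toRingHom) heq'
    rw [heq]
    exact RingHom.Flat.comp (RingHom.Flat.tensorProductMap hBC hBC)
      (Algebra.WeaklyEtale.flat_lmul' A C)
  · rw [RingHom.faithfullyFlat_algebraMap_iff]
    infer_instance

end Groth.Agent.Lib.Helper3
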