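import Groth.Agent.Lib.Helper3.Hensel
import Mathlib.Algebra.Polynomial.Lifts
import Mathlib.RingTheory.Ideal.Quotient.Operations

/-!
More helper lemmas on Henselian pairs (Mathlib's `HenselianRing`), by helper3:
transfer between ideals `I ≤ J`, surjective images, quotients.
-/

namespace Groth.Agent.Lib.Helper3

open Polynomial

theorem isUnit_mk_iff {A : Type*} [CommRing A] (I : Ideal A) (x : A) :
    IsUnit (Ideal.Quotient.mk I x) ↔ ∃ y : A, x * y - 1 ∈ I := by
  constructor
  · rintro ⟨u, hu⟩
    obtain ⟨y, hy⟩ := Ideal.Quotient.mk_surjective (u⁻¹ : (A ⧸ I)ˣ).val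
    refine ⟨y, ?_⟩
    rw [← Ideal.Quotient.eq_zero_iff_mem, map_sub, map_mul, map_one, hy, ← hu, Units.mul_inv,
      sub_self]
  · rintro ⟨y, hy⟩
    refine IsUnit.of_mul_eq_one (Ideal.Quotient.mk I y) ?_
    rw [← Ideal.Quotient.eq_zero_iff_mem, map_sub, map_mul, map_one, sub_eq_zero] at hy
    exact hy

/-- An element of the Jacobson radical added to a unit is a unit. -/
theorem isUnit_add_of_mem_jacobson_bot {A : Type*} [CommRing A] {u j : A} (hu : IsUnit u)
    (hj : j ∈ Ideal.jacobson (⊥ : Ideal A)) : IsUnit (u + j) := by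
  obtain ⟨v, rfl⟩ := hu
  have h := (Ideal.mem_jacobson_bot.mp hj) ((v⁻¹ : Aˣ) : A)
  have : (v : A) + j = v * (j * ((v⁻¹ : Aˣ) : A) + 1) := by
    rw [mul_add, mul_one, mul_comm j, ← mul_assoc, Units.mul_inv, one_mul, add_comm]
  rw [this]
  exact v.isUnit.mul h

/-- If `A` is Henselian at `J` and `I ≤ J`, then `A` is Henselian at `I`. -/
theorem henselianRing_of_le {A : Type*} [CommRing A] {I J : Ideal A} (hIJ : I ≤ J)
    (hJ : HenselianRing A J) : HenselianRing A I where
  jac := hIJ.trans hJ.jac
  is_henselian f hf a₀ h₁ h₂ := by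
    have h₂' : IsUnit (Ideal.Quotient.mk J (f.derivative.eval a₀)) := by
      rw [isUnit_mk_iff] at h₂ ⊢
      obtain ⟨y, hy⟩ := h₂
      exact ⟨y, hIJ hy⟩
    obtain ⟨a, ha, haJ⟩ := hJ.is_henselian f hf a₀ (hIJ h₁) h₂'
    refine ⟨a, ha, ?_⟩
    apply sub_mem_of_isRoot_of_isUnit I f a a₀ ha h₁
    intro k
    apply isUnit_add_of_mem_jacobson_bot (isUnit_of_isUnit_mk_of_le_jacobson hJ.jac h₂')
    exact hJ.jac (J.mul_mem_left k haJ)

theorem map_le_jacobson_bot_of_surjective {A B : Type*} [CommRing A] [CommRing B] (φ : A →+* B)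
    (hφ : Function.Surjective φ) {J : Ideal A} (hJ : J ≤ Ideal.jacobson ⊥) :
    J.map φ ≤ Ideal.jacobson ⊥ := by
  intro x hx
  rw [Ideal.mem_jacobson_bot]
  intro y
  obtain ⟨x', hx', rfl⟩ := (Ideal.mem_map_iff_of_surjective φ hφ).mp hx
  obtain ⟨y', rfl⟩ := hφ y
  have := (Ideal.mem_jacobson_bot.mp (hJ hx')) y'
  simpa using this.map φ

/-- The image of a Henselian pair `(A, J)` under a surjective ring homomorphism whose kernel
is contained in `J` is a Henselian pair. -/
theorem henselianRing_map_of_surjective_of_ker_le {A B : Type*} [CommRing A] [CommRing B]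
    (φ : A →+* B) (hφ : Function.Surjective φ) {J : Ideal A} (hK : RingHom.ker φ ≤ J)
    (hJ : HenselianRing A J) : HenselianRing B (J.map φ) where
  jac := map_le_jacobson_bot_of_surjective φ hφ hJ.jac
  is_henselian f hf b₀ h₁ h₂ := by
    have hcomap : Ideal.comap φ (J.map φ) = J := by
      rw [Ideal.comap_map_of_surjective φ hφ]
      exact sup_eq_left.mpr hK
    obtain ⟨g, hg, -, hgm⟩ := lifts_and_natDegree_eq_and_monic
      ((mem_lifts f).mpr (map_surjective φ hφ f)) hf
    obtain ⟨a₀, rfl⟩ := hφ b₀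
    have h3 : g.eval a₀ ∈ J := by
      rw [← hcomap, Ideal.mem_comap, ← eval_map_apply, hg]
      exact h₁
    have hunit : IsUnit (Ideal.Quotient.mk J (g.derivative.eval a₀)) := by
      rw [isUnit_mk_iff] at h₂ ⊢
      obtain ⟨y, hy⟩ := h₂
      obtain ⟨y', rfl⟩ := hφ y
      refine ⟨y', ?_⟩
      rw [← hcomap, Ideal.mem_comap, map_sub, map_mul, map_one, ← eval_map_apply,
        ← derivative_map, hg]
      exact hy
    obtain ⟨a, ha, haJ⟩ := hJ.is_henselian g hgm a₀ h3 hunit
    refine ⟨φ a, ?_, ?_⟩
    · rw [IsRoot.def, ← hg, eval_map_apply, ha.eq_zero, map_zero]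
    · rw [← map_sub]
      exact Ideal.mem_map_of_mem φ haJ

/-- If `I ≤ J`, `A` is Henselian at `I` and `A ⧸ I` is Henselian at the image of `J`,
then `A` is Henselian at `J`. -/
theorem henselianRing_of_quotient {A : Type*} [CommRing A] {I J : Ideal A} (hIJ : I ≤ J)
    (hI : HenselianRing A I)
    (hJ : HenselianRing (A ⧸ I) (J.map (Ideal.Quotient.mk I))) : HenselianRing A J := by
  have hcomap : Ideal.comap (Ideal.Quotient.mk I) (J.map (Ideal.Quotient.mk I)) = J := by
    rw [Ideal.comap_map_of_surjective _ Ideal.Quotient.mk_surjective]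
    refine sup_eq_left.mpr ?_
    rw [← RingHom.ker_eq_comap_bot, Ideal.mk_ker]
    exact hIJ
  have hjac : J ≤ Ideal.jacobson ⊥ := by
    intro x hx
    rw [Ideal.mem_jacobson_bot]
    intro y
    apply isUnit_of_isUnit_mk_of_le_jacobson hI.jac
    have : Ideal.Quotient.mk I x ∈ Ideal.jacobson (⊥ : Ideal (A ⧸ I)) :=
      hJ.jac (Ideal.mem_map_of_mem _ hx)
    simpa using (Ideal.mem_jacobson_bot.mp this) (Ideal.Quotient.mk I y)
  refine ⟨hjac, ?_⟩
  intro f hf a₀ h₁ h₂
  have h₂A : IsUnit (f.derivative.eval a₀) := isUnit_of_isUnit_mk_of_le_jacobson hjac h₂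
  -- solve modulo `I`
  have h1' : (f.map (Ideal.Quotient.mk I)).eval (Ideal.Quotient.mk I a₀) ∈
      J.map (Ideal.Quotient.mk I) := by
    rw [eval_map_apply]; exact Ideal.mem_map_of_mem _ h₁
  have h2' : IsUnit (Ideal.Quotient.mk (J.map (Ideal.Quotient.mk I))
      ((f.map (Ideal.Quotient.mk I)).derivative.eval (Ideal.Quotient.mk I a₀))) := by
    rw [derivative_map, eval_map_apply]
    exact (h₂A.map _).map _
  obtain ⟨b', hb', hb'J⟩ := hJ.is_henselian (f.map (Ideal.Quotient.mk I)) (hf.map _)
    (Ideal.Quotient.mk I a₀) h1' h2'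
  obtain ⟨b, rfl⟩ := Ideal.Quotient.mk_surjective b'
  have hbJ : b - a₀ ∈ J := by
    rw [← hcomap, Ideal.mem_comap, map_sub]; exact hb'J
  have hbI : f.eval b ∈ I := by
    rw [← Ideal.Quotient.eq_zero_iff_mem, ← eval_map_apply]; exact hb'
  have hbu : IsUnit (f.derivative.eval b) := by
    have : f.derivative.eval b = f.derivative.eval a₀ + (f.derivative.eval b - f.derivative.eval a₀) := by
      ring
    rw [this]
    apply isUnit_add_of_mem_jacobson_bot h₂A
    apply hjac
    obtain ⟨c, hc⟩ := sub_dvd_eval_sub b a₀ f.derivative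
    rw [hc]
    exact J.mul_mem_right _ hbJ
  obtain ⟨a, ha, haI⟩ := hI.is_henselian f hf b hbI (hbu.map _)
  refine ⟨a, ha, ?_⟩
  have : a - a₀ = (a - b) + (b - a₀) := by ring
  rw [this]
  exact J.add_mem (hIJ haI) hbJ

/-- If `A` is Henselian at `I` and at `J`, it is Henselian at `I ⊔ J`. -/
theorem henselianRing_sup {A : Type*} [CommRing A] {I J : Ideal A}
    (hI : HenselianRing A I) (hJ : HenselianRing A J) : HenselianRing A (I ⊔ J) := by
  have hjac : I ⊔ J ≤ Ideal.jacobson ⊥ := sup_le hI.jac hJ.jac
  refine ⟨hjac, ?_⟩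
  intro f hf a₀ h₁ h₂
  have h₂A : IsUnit (f.derivative.eval a₀) := isUnit_of_isUnit_mk_of_le_jacobson hjac h₂
  rcases Nat.eq_zero_or_pos f.natDegree with hdeg | hdeg
  · -- `f = 1`, so `1 ∈ I ⊔ J` lies in the Jacobson radical: the ring is trivial
    have hf1 : f = 1 := by rw [← hf.natDegree_eq_zero]; exact hdeg
    rw [hf1, eval_one] at h₁
    have := (Ideal.mem_jacobson_bot.mp (hjac h₁)) (-1)
    have h0 : (0 : A) = 1 := by
      have h' : IsUnit (0 : A) := by simpa using this
      exact (isUnit_zero_iff.mp h')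
    have hsub : Subsingleton A := subsingleton_of_zero_eq_one h0
    exact ⟨a₀, Subsingleton.elim _ _, by simp⟩
  obtain ⟨i, hi, j, hj, hij⟩ := Submodule.mem_sup.mp h₁
  -- first solve `f - j` using `I`
  let f₁ : A[X] := f - C j
  have hf₁m : f₁.Monic := by
    apply hf.sub_of_left
    apply lt_of_le_of_lt degree_C_le
    have hA : Nontrivial A := by
      by_contra h
      rw [not_nontrivial_iff_subsingleton] at h
      have : f.natDegree = 0 := by
        rw [Subsingleton.elim f 0]; simp
      omega
    rw [degree_eq_natDegree hf.ne_zero]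
    exact_mod_cast hdeg
  have hf₁der : derivative f₁ = derivative f := by simp [f₁]
  have hf₁eval : f₁.eval a₀ ∈ I := by
    have : f₁.eval a₀ = i := by
      simp only [f₁, eval_sub, eval_C]
      rw [← hij]; ring
    rw [this]; exact hi
  obtain ⟨a₁, ha₁, ha₁I⟩ := hI.is_henselian f₁ hf₁m a₀ hf₁eval (by
    rw [hf₁der]; exact h₂A.map _)
  have hfa₁ : f.eval a₁ ∈ J := by
    have : f.eval a₁ = j := by
      have := ha₁.eq_zero
      simp only [f₁, eval_sub, eval_C] at this
      linear_combination this
    rw [this]; exact hj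
  have hbu : IsUnit (f.derivative.eval a₁) := by
    have : f.derivative.eval a₁ =
        f.derivative.eval a₀ + (f.derivative.eval a₁ - f.derivative.eval a₀) := by ring
    rw [this]
    apply isUnit_add_of_mem_jacobson_bot h₂A
    apply hI.jac
    obtain ⟨c, hc⟩ := sub_dvd_eval_sub a₁ a₀ f.derivative
    rw [hc]
    exact I.mul_mem_right _ ha₁I
  obtain ⟨a, ha, haJ⟩ := hJ.is_henselian f hf a₁ hfa₁ (hbu.map _)
  refine ⟨a, ha, ?_⟩
  have : a - a₀ = (a₁ - a₀) + (a - a₁) := by ring
  rw [this]
  exact Submodule.add_mem_sup ha₁I haJ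

/-- Every ring is Henselian at the zero ideal. -/
theorem henselianRing_bot (A : Type*) [CommRing A] : HenselianRing A ⊥ where
  jac := bot_le
  is_henselian f _ a₀ h₁ _ := ⟨a₀, by simpa using h₁, by simp⟩

end Groth.Agent.Lib.Helper3

namespace Groth.Agent.Lib.Helper3

open Polynomial

/-- The image of a Henselian pair `(A, J)` under a surjective ring homomorphism `φ` is a Henselian
pair, provided units modulo `φ(J)` can be lifted to units modulo `J` within cosets of `ker φ`. -/
theorem henselianRing_map_of_surjective_of_unit_lift {A B : Type*} [CommRing A] [CommRing B]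
    (φ : A →+* B) (hφ : Function.Surjective φ) {J : Ideal A} (hJ : HenselianRing A J)
    (hlift : ∀ a : A, IsUnit (Ideal.Quotient.mk (J.map φ) (φ a)) →
      ∃ k ∈ RingHom.ker φ, IsUnit (Ideal.Quotient.mk J (a + k))) :
    HenselianRing B (J.map φ) where
  jac := map_le_jacobson_bot_of_surjective φ hφ hJ.jac
  is_henselian f hf b₀ h₁ h₂ := by
    rcases subsingleton_or_nontrivial B with hB | hB
    · exact ⟨b₀, Subsingleton.elim _ _, by simp⟩
    have hA : Nontrivial A := φ.domain_nontrivial
    obtain ⟨g, hg, hgdeg, hgm⟩ := lifts_and_natDegree_eq_and_monic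
      ((mem_lifts f).mpr (map_surjective φ hφ f)) hf
    obtain ⟨a₀, rfl⟩ := hφ b₀
    have h3 : g.eval a₀ ∈ J ⊔ RingHom.ker φ := by
      have : φ (g.eval a₀) ∈ J.map φ := by
        rw [← hg, eval_map_apply] at h₁
        exact h₁
      rw [← Ideal.mem_comap, Ideal.comap_map_of_surjective φ hφ] at this
      simpa [RingHom.ker] using this
    obtain ⟨j, hj, i, hi, hji⟩ := Submodule.mem_sup.mp h3
    have hi0 : φ i = 0 := hi
    -- lift the unit
    have hd : IsUnit (Ideal.Quotient.mk (J.map φ) (φ (g.derivative.eval a₀))) := by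
      rw [← eval_map_apply, ← derivative_map, hg]; exact h₂
    obtain ⟨k, hk, hku⟩ := hlift _ hd
    have hk0 : φ k = 0 := hk
    -- the case of degree zero
    rcases Nat.eq_zero_or_pos g.natDegree with hdeg | hdeg
    · exfalso
      have hg1 : g = 1 := by
        rw [← hgm.natDegree_eq_zero]; exact hdeg
      have hf1 : f = 1 := by rw [← hg, hg1, Polynomial.map_one]
      rw [hf1, eval_one] at h₁
      have hjac : (1 : B) ∈ Ideal.jacobson (⊥ : Ideal B) :=
        map_le_jacobson_bot_of_surjective φ hφ hJ.jac h₁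
      have := (Ideal.mem_jacobson_bot.mp hjac) (-1)
      simp at this
    -- the modified polynomial
    obtain ⟨g', hg'm, hg'map, hg'eval, hunit⟩ : ∃ g' : A[X], g'.Monic ∧ g'.map φ = f ∧
        g'.eval a₀ ∈ J ∧ IsUnit (Ideal.Quotient.mk J (g'.derivative.eval a₀)) := by
      rcases Nat.lt_or_ge g.natDegree 2 with hlt | hge
      · -- degree one: the derivative is `1`
        have hdeg1 : g.natDegree = 1 := by omega
        refine ⟨g - C i, ?_, ?_, ?_, ?_⟩
        · apply hgm.sub_of_left
          apply lt_of_le_of_lt degree_C_le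
          rw [degree_eq_natDegree hgm.ne_zero]
          exact_mod_cast hdeg
        · simp [hg, hi0]
        · have : (g - C i).eval a₀ = j := by
            simp only [eval_sub, eval_C]
            rw [← hji]; ring
          rw [this]; exact hj
        · have hder : derivative (g - C i) = 1 := by
            have h1 : g = X + C (g.coeff 0) := by
              have := hgm.leadingCoeff
              conv_lhs => rw [eq_X_add_C_of_natDegree_le_one hdeg1.le]
              have hc1 : g.coeff 1 = 1 := by
                rw [← hdeg1]; exact hgm.coeff_natDegree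
              rw [hc1]; simp
            rw [derivative_sub, derivative_C, sub_zero, h1]
            simp
          rw [hder, eval_one, map_one]
          exact isUnit_one
      · refine ⟨g - C i + C k * (X - C a₀), ?_, ?_, ?_, ?_⟩
        · have h1 : (g - C i).Monic := by
            apply hgm.sub_of_left
            apply lt_of_le_of_lt degree_C_le
            rw [degree_eq_natDegree hgm.ne_zero]
            exact_mod_cast hdeg
          apply h1.add_of_left
          have hnd : (g - C i).natDegree = g.natDegree := by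
            apply natDegree_sub_eq_left_of_natDegree_lt
            rw [natDegree_C]; exact hdeg
          rw [degree_eq_natDegree h1.ne_zero, hnd]
          have h2 : (C k * (X - C a₀)).degree ≤ 1 := by
            calc (C k * (X - C a₀)).degree ≤ (C k).degree + (X - C a₀).degree := degree_mul_le _ _
              _ ≤ 0 + 1 := add_le_add degree_C_le (degree_X_sub_C_le _)
              _ = 1 := zero_add 1
          apply lt_of_le_of_lt h2
          exact_mod_cast hge
        · simp [hg, hi0, hk0]
        · have : (g - C i + C k * (X - C a₀)).eval a₀ = j := by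
            simp only [eval_sub, eval_C, eval_add, eval_mul, eval_X]
            rw [← hji]; ring
          rw [this]; exact hj
        · have : (derivative (g - C i + C k * (X - C a₀))).eval a₀ =
              g.derivative.eval a₀ + k := by
            simp [derivative_mul]
          rw [this]; exact hku
    obtain ⟨a, ha, haJ⟩ := hJ.is_henselian g' hg'm a₀ hg'eval hunit
    refine ⟨φ a, ?_, ?_⟩
    · rw [IsRoot.def, ← hg'map, eval_map_apply, ha.eq_zero, map_zero]
    · rw [← map_sub]
      exact Ideal.mem_map_of_mem φ haJ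

end Groth.Agent.Lib.Helper3
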