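import Mathlib.RingTheory.Etale.Weakly
import Mathlib.RingTheory.Ideal.Pure
import Mathlib.RingTheory.Unramified.Basic
import Mathlib.RingTheory.Ideal.Cotangent

/-!
Weakly étale algebras are formally unramified (helper3).
-/

namespace Groth.Agent.Lib.Helper3

open TensorProduct

/-- If `A → B` is a flat surjective ring map then its kernel is idempotent. -/
theorem isIdempotentElem_ker_of_flat_of_surjective {A B : Type*} [CommRing A] [CommRing B]
    (f : A →+* B) (hf : f.Flat) (hs : Function.Surjective f) :
    IsIdempotentElem (RingHom.ker f) := by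
  algebraize [f]
  let e : (A ⧸ RingHom.ker (Algebra.ofId A B)) ≃ₐ[A] B :=
    Ideal.quotientKerAlgEquivOfSurjective (f := Algebra.ofId A B) hs
  have : Module.Flat A (A ⧸ RingHom.ker (Algebra.ofId A B)) :=
    Module.Flat.of_linearEquiv e.toLinearEquiv
  exact Ideal.isIdempotentElem_of_pure (RingHom.ker (Algebra.ofId A B))

/-- A weakly étale algebra is formally unramified. -/
theorem formallyUnramified_of_weaklyEtale (R S : Type*) [CommRing R] [CommRing S] [Algebra R S]
    [Algebra.WeaklyEtale R S] : Algebra.FormallyUnramified R S := by
  constructor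
  have hflat := Algebra.WeaklyEtale.flat_lmul' R S
  have hs : Function.Surjective (Algebra.TensorProduct.lmul' R (S := S)).toRingHom := by
    intro s
    exact ⟨s ⊗ₜ 1, by simp⟩
  have := isIdempotentElem_ker_of_flat_of_surjective _ hflat hs
  exact (Ideal.cotangent_subsingleton_iff (I := KaehlerDifferential.ideal R S)).mpr this

end Groth.Agent.Lib.Helper3
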